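import Cfsg.Agent.TAB.B.P11.Tool
import Cfsg.Agent.TAB.B.P11.Wd

/-!
# The boxes of the primes 11, 13, 17, 19, 23, 31, 47 in the Baby Monster (helper72, TAB)
-/

set_option autoImplicit false
set_option maxRecDepth 100000

namespace Cfsg.Agent.TAB.B.P11

open Cfsg Cfsg.Agent.TAB.Eng Cfsg.Agent.TAB.B Cfsg.Agent.TAB.Big
open Cfsg.Agent.H863.BGL (iso)
open Cfsg.Agent.H819.U33 (g)
open Subgroup (centralizer zpowers mem_centralizer_singleton_iff)

/-! ### Local data -/

theorem ord_iso {x : BG} {n : ℕ} (hx : orderOf x = n) : orderOf (iso.symm x) = n := (iso.symm.orderOf_eq x).trans hx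

theorem c11 (x : BG) (hx : orderOf x = 11) : cc x = 1320 := (cc_eq x).trans (BMx.Loc.cent11 (ord_iso hx))

theorem c13 (x : BG) (hx : orderOf x = 13) : cc x = 312 := (cc_eq x).trans (BMx.Loc.cent13 (ord_iso hx))

theorem c17 (x : BG) (hx : orderOf x = 17) : cc x = 68 := (cc_eq x).trans (BMx.Loc.cent17 (ord_iso hx))

theorem c19 (x : BG) (hx : orderOf x = 19) : cc x = 38 := (cc_eq x).trans (BMx.Loc.cent19 (ord_iso hx))

theorem c23 (x : BG) (hx : orderOf x = 23) : cc x = 46 := (cc_eq x).trans (BMx.Loc.cent23 (ord_iso hx))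

theorem c31 (x : BG) (hx : orderOf x = 31) : cc x = 31 := (cc_eq x).trans (BMx.Loc.cent31 (ord_iso hx))

theorem c47 (x : BG) (hx : orderOf x = 47) : cc x = 47 := (cc_eq x).trans (BMx.Loc.cent47 (ord_iso hx))

theorem q11 {x : BG} (hx : orderOf x = 11) : Quo x (Equiv.Perm (Fin 5)) := Quo.map iso (BMx.Loc.hom11 (ord_iso hx))

theorem q13 {x : BG} (hx : orderOf x = 13) : Quo x (Equiv.Perm (Fin 4)) := by
  have := BMx.Loc.fin_BM
  obtain ⟨K, h1, h2, ⟨e⟩⟩ := BMx.Loc.sub13 (ord_iso hx)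
  exact Quo.map iso (quo_of_sub (by norm_num) (ord_iso hx) h1 (by rw [h2]; norm_num)
    (by rw [h2]; exact BMx.Loc.cent13 (ord_iso hx)) e)

theorem cen38 (y : BG) (hy : orderOf y = 38) : ¬ 4 ∣ Nat.card (centralizer ({y} : Set BG)) := by
  have := finBG
  intro h
  have h1 := h.trans (Subgroup.card_dvd_of_le (cent_le_pow y 2))
  rw [← cc, c19 _ (by rw [orderOf_pow, hy]; norm_num)] at h1
  norm_num at h1

/-! ### Symmetric groups -/

theorem card_perm {n : ℕ} (s : Equiv.Perm (Fin n)) : Nat.card (centralizer ({s} : Set (Equiv.Perm (Fin n)))) =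
    (Finset.univ.filter fun t : Equiv.Perm (Fin n) => t * s = s * t).card := by
  rw [← Fintype.card_subtype, ← Nat.card_eq_fintype_card]
  exact Nat.card_congr (Equiv.subtypeEquivRight fun _ => mem_centralizer_singleton_iff)

theorem s5 : ∀ s : Equiv.Perm (Fin 5), s ≠ 1 → ∀ n, n = (Finset.univ.filter fun t => t * s = s * t).card →
    n ≤ 12 ∧ (s ^ 2 ≠ 1 → n ≤ 6) ∧ (s ^ 5 = 1 → n ≤ 5) := by
  simp only [forall_eq]
  decide +kernel

theorem s4 : ∀ s : Equiv.Perm (Fin 4), s ≠ 1 → ∀ n, n = (Finset.univ.filter fun t => t * s = s * t).card →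
    n ≤ 8 ∧ (s ^ 2 ≠ 1 → n ≤ 4) ∧ (s ^ 3 = 1 → n ≤ 3) ∧
      (n ≤ 4 ∨ ∀ r : Equiv.Perm (Fin 4), r ^ 2 ≠ 1 → r ^ 4 = 1 → ∃ t, t * s * t⁻¹ = r ^ 2) := by
  simp only [forall_eq]
  decide +kernel

theorem ne_of_ord {S : Type} [Group S] {s : S} {m k : ℕ} (h : orderOf s = m) (hk : ¬ m ∣ k) : s ^ k ≠ 1 := fun h1 =>
  hk (h ▸ orderOf_dvd_of_pow_eq_one h1)

theorem ne_one_of_ord {S : Type} [Group S] {s : S} {m : ℕ} (h : orderOf s = m) (hk : m ≠ 1) : s ≠ 1 := fun h1 =>
  hk (by rw [← h, h1, orderOf_one])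

theorem eq_of_ord {S : Type} [Group S] {s : S} {m : ℕ} (h : orderOf s = m) : s ^ m = 1 := h ▸ pow_orderOf_eq_one s

/-! ### The traces of the words -/

theorem vT : ch (g wT) = 78 := ch_of_tr ch_T

theorem vS : ch (g wS) = -493 := ch_of_tr ch_S

theorem vTS : ch (g wT * g wS) = -34 := by
  rw [T_S]
  exact ch_of_tr ch_TS

theorem vF : ch (g wF) = 21 := ch_of_tr ch_F

theorem vX : ch (g wX) = -493 := ch_of_tr ch_X

theorem vA : ch (g wA) = -493 := ch_of_tr ch_A

theorem vC : ch (g wC) = -53 := ch_of_tr ch_C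

theorem vAC : ch (g wA * g wC) = -493 := by
  rw [A_C]
  exact ch_of_tr ch_AC

theorem vR : ch (g wR) = -1 := ch_of_tr ch_R

/-! ### The primes 23, 31, 47 -/

theorem v47 {x : BG} (hx : orderOf x = 47) : ch x = 0 := by
  have h1 := ch_prime (by norm_num) hx
  have h2 := ch_abs 6 (c47 x hx).le (by norm_num)
  omega

theorem v31 {x : BG} (hx : orderOf x = 31) : ch x = 0 := by
  have h1 := ch_prime (by norm_num) hx
  have h2 := ch_abs 5 (c31 x hx).le (by norm_num)
  omega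

theorem v23 {x : BG} (hx : orderOf x = 23) : ch x = 1 := by
  have h1 := ch_prime (by norm_num) hx
  have h2 := ch_abs 6 (c23 x hx).le (by norm_num)
  omega

theorem box_47AB : BoxB 162 :=
  box_two (by norm_num) (by norm_num) c47 (by decide +kernel) (fun _ hg => ty_one sg_47AB hg (v47 hg))
    (by rw [cnt_47AB]; decide +kernel)

theorem box_31AB : BoxB 140 :=
  box_two (by norm_num) (by norm_num) c31 (by decide +kernel) (fun _ hg => ty_one sg_31AB hg (v31 hg))
    (by rw [cnt_31AB]; decide +kernel)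

theorem box_23AB : BoxB 109 :=
  box_two (by norm_num) (by norm_num) c23 (by decide +kernel) (fun _ hg => ty_one sg_23AB hg (v23 hg))
    (by rw [cnt_23AB]; decide +kernel)

/-! ### The prime 19 -/

theorem v19 {x : BG} (hx : orderOf x = 19) : ch x = 1 := by
  have h1 := ch_prime (by norm_num) hx
  have h2 := ch_abs 6 (c19 x hx).le (by norm_num)
  omega

theorem boxC_19A : BoxCB 95 := boxC_of (ty_one sg_19A o_x38 (v19 o_x38)) (c19 _ o_x38).le (by rw [cnt_19A])

theorem boxC_38A : BoxCB 150 := by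
  have h0 := (cc_le (by norm_num) o_x38 c_x38_X.eq o_X (by norm_num)).trans (c19 _ o_x38).le
  have h1 := cong (by norm_num) o_x38 c_x38_X.eq (by rw [o_X]; norm_num)
  have h2 := ch_abs 6 h0 (by norm_num)
  rw [vX] at h1
  exact boxC_of (ty_pq sg_38A (by norm_num) o_x38 c_x38_X.eq o_X (by norm_num) (by norm_num) (by omega) (v19 o_x38) vX)
    h0 (by rw [cnt_38A])

/-! ### The prime 17 -/

theorem v17 {x : BG} (hx : orderOf x = 17) : ch x = 2 := by
  have h1 := ch_prime (by norm_num) hx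
  have h2 := ch_abs 8 (c17 x hx).le (by norm_num)
  omega

theorem boxC_17A : BoxCB 89 := boxC_of (ty_one sg_17A o_x34 (v17 o_x34)) (c17 _ o_x34).le (by rw [cnt_17A])

theorem boxC_34C : BoxCB 145 := by
  have h0 := (cc_le (by norm_num) o_x34 c_x34_C.eq o_C (by norm_num)).trans (c17 _ o_x34).le
  have h1 := cong (by norm_num) o_x34 c_x34_C.eq (by rw [o_C]; norm_num)
  have h2 := ch_abs 8 h0 (by norm_num)
  rw [vC] at h1
  exact boxC_of (ty_pq sg_34C (by norm_num) o_x34 c_x34_C.eq o_C (by norm_num) (by norm_num) (by omega) (v17 o_x34) vC)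
    h0 (by rw [cnt_34C])

theorem ty_34AB {x y : BG} (hx : orderOf x = 17) (h : x * y = y * x) (hy : orderOf y = 2) (hv : ch y = -493) :
    TyB 144 (x * y) ∧ (x * y) ^ 18 = x := by
  have h0 := (cc_le (by norm_num) hx h hy (by norm_num)).trans (c17 _ hx).le
  have h1 := cong (by norm_num) hx h (by rw [hy]; norm_num)
  have h2 := ch_abs 8 h0 (by norm_num)
  rw [hv] at h1
  refine ⟨ty_pq sg_34AB (by norm_num) hx h hy (by norm_num) (by norm_num) (by omega) (v17 hx) hv, ?_⟩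
  rw [(show Commute x y from h).mul_pow, pow_succ x 17, eq_of_ord hx, one_mul, show 18 = 2 * 9 from rfl, pow_mul,
    eq_of_ord hy, one_pow, mul_one]

theorem o_AC : orderOf (g wA * g wC) = 2 := by
  have : Fact (Nat.Prime 2) := ⟨Nat.prime_two⟩
  refine orderOf_eq_prime (by rw [c_A_C.mul_pow, eq_of_ord o_A, eq_of_ord o_C, one_mul]) fun h => ?_
  have h1 := vAC
  rw [h, ch_one] at h1
  norm_num at h1

theorem box_34AB : BoxB 144 := by
  have := finBG
  refine Box.of_pow (k := 18) (m := 2) (c17 _ o_x34).le ?_ (by rw [cnt_34AB, card_B])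
  refine Finite.one_lt_card_iff_nontrivial.2 ⟨⟨_, ty_34AB o_x34 c_x34_A.eq o_A vA⟩,
    ⟨_, ty_34AB o_x34 (c_x34_A.mul_right c_x34_C).eq o_AC vAC⟩, fun h => ?_⟩
  have h1 : g x34 * g wA = g x34 * (g wA * g wC) := congrArg Subtype.val h
  exact ne_one_of_ord o_C (by norm_num) (left_eq_mul.1 (mul_left_cancel h1))

/-! ### The prime 13 -/

theorem R_pow : g wR ^ 2 = g wC := (pow_two _).trans R_sq

theorem c_x52_C : Commute (g x52) (g wC) := R_pow ▸ c_x52_R.pow_right 2

theorem cc_26A : cc (g x52 * g wC) ≤ 13 * 8 :=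
  cc_quo (by norm_num) o_x52 (q13 o_x52) c_x52_C.eq o_C (by norm_num) fun s hs =>
    (s4 s (ne_one_of_ord hs (by norm_num)) _ (card_perm s)).1

theorem v26A : ch (g x52 * g wC) = -1 := by
  have h1 := cong (by norm_num) o_x52 c_x52_C.eq (by rw [o_C]; norm_num)
  have h2 := ch_abs 10 cc_26A (by norm_num)
  rw [vC] at h1
  omega

theorem v52 : ch (g x52) = 3 := by
  have h1 := ch_prime (by norm_num) o_x52
  have h2 := ch_abs 17 (c13 _ o_x52).le (by norm_num)
  have h3 := cong' Nat.prime_two o_C c_x52_C.eq (by rw [o_x52]; norm_num)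
  rw [v26A] at h3
  omega

theorem ch_same {p : ℕ} (hp : p.Prime) (h2 : ¬ p ^ 2 ∣ NB) {x y : BG} (hx : orderOf x = p) (hy : orderOf y = p) :
    ch y = ch x := by
  have := finBG
  obtain ⟨c, h1, -⟩ := exists_conj hp (by rw [card_B]; exact h2) hx hy
  obtain ⟨k, hk⟩ := (mem_powers_iff_mem_zpowers.2 h1 : c * y * c⁻¹ ∈ Submonoid.powers x)
  have hk' : x ^ k = c * y * c⁻¹ := hk
  rw [← ch_conj c y, ← hk']
  apply ch_gal
  have h3 : orderOf (x ^ k) = orderOf x := by rw [hk', orderOf_conj', hx, hy]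
  rw [orderOf_pow, Nat.div_eq_self] at h3
  rcases h3 with h3 | h3
  · exact absurd h3 (orderOf_pos x).ne'
  · exact Nat.Coprime.symm h3

theorem v13 {x : BG} (hx : orderOf x = 13) : ch x = 3 :=
  (ch_same (by norm_num) (by norm_num) o_x52 hx).trans v52

theorem boxC_13A : BoxCB 74 := boxC_of (ty_one sg_13A o_x52 v52) (c13 _ o_x52).le (by rw [cnt_13A])

theorem boxC_26A : BoxCB 125 :=
  boxC_of (ty_pq sg_26A (by norm_num) o_x52 c_x52_C.eq o_C (by norm_num) (by norm_num) v26A v52 vC) cc_26A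
    (by rw [cnt_26A])

theorem boxC_52A : BoxCB 165 := by
  have h0 : cc (g x52 * g wR) ≤ 13 * 4 :=
    cc_quo (by norm_num) o_x52 (q13 o_x52) c_x52_R.eq o_R (by norm_num) fun s hs =>
      (s4 s (ne_one_of_ord hs (by norm_num)) _ (card_perm s)).2.1 (ne_of_ord hs (by norm_num))
  have h1 := cong (by norm_num) o_x52 c_x52_R.eq (by rw [o_R]; norm_num)
  have h2 := ch_abs 7 h0 (by norm_num)
  rw [vR] at h1
  refine boxC_of (ty_of sg_52A (by norm_num) o_x52 c_x52_R.eq o_R (by norm_num) (by norm_num) ?_) h0 (by rw [cnt_52A])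
  simp only [List.forall_mem_cons, List.not_mem_nil, false_imp_iff, implies_true, and_true]
  refine ⟨Or.inl ⟨by norm_num, by rw [pow_one]; omega⟩, Or.inl ⟨by norm_num, by rw [R_pow, v26A]⟩,
    Or.inl ⟨by norm_num, by rw [eq_of_ord o_R, mul_one, v52]⟩, Or.inr ⟨by norm_num, ?_⟩, Or.inr ⟨by norm_num, ?_⟩⟩
  · rw [show 13 / 13 = 1 from rfl, pow_one, vR]
  · rw [show 26 / 13 = 2 from rfl, R_pow, vC]

theorem boxC_39A : BoxCB 151 := by
  have h0 : cc (g x39 * g wT) ≤ 13 * 3 :=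
    cc_quo (by norm_num) o_x39 (q13 o_x39) c_x39_T.eq o_T (by norm_num) fun s hs =>
      (s4 s (ne_one_of_ord hs (by norm_num)) _ (card_perm s)).2.2.1 (eq_of_ord hs)
  have h1 := cong (by norm_num) o_x39 c_x39_T.eq (by rw [o_T]; norm_num)
  have h2 := ch_abs 6 h0 (by norm_num)
  rw [vT] at h1
  exact boxC_of (ty_pq sg_39A (by norm_num) o_x39 c_x39_T.eq o_T (by norm_num) (by norm_num) (by omega) (v13 o_x39) vT)
    h0 (by rw [cnt_39A])

theorem cc_26B : cc (g x52 * g wA) ≤ 13 * 4 := by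
  have := finBG
  obtain ⟨φ, h1, h2⟩ := q13 o_x52
  let a : centralizer ({g x52} : Set BG) := ⟨g wA, mem_centralizer_singleton_iff.2 c_x52_A.eq.symm⟩
  let r : centralizer ({g x52} : Set BG) := ⟨g wR, mem_centralizer_singleton_iff.2 c_x52_R.eq.symm⟩
  have ha : orderOf (φ a) = 2 := (quo_ord (by norm_num) o_x52 h2 a (by rw [o_A]; norm_num)).trans o_A
  have hr : orderOf (φ r) = 4 := (quo_ord (by norm_num) o_x52 h2 r (by rw [o_R]; norm_num)).trans o_R
  rcases (s4 _ (ne_one_of_ord ha (by norm_num)) _ (card_perm _)).2.2.2 with h3 | h3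
  · rw [cc_mul (by norm_num) o_x52 c_x52_A.eq o_A (by norm_num)]
    have h4 := quo_le h2 a
    rw [o_x52] at h4
    exact h4.trans (Nat.mul_le_mul_left _ h3)
  · exfalso
    obtain ⟨t, ht⟩ := h3 _ (ne_of_ord hr (by norm_num)) (eq_of_ord hr)
    obtain ⟨k, rfl⟩ := h1 t
    have h4 := (h2 (k * a * k⁻¹ * (r ^ 2)⁻¹)).1 (by
      rw [map_mul, map_mul, map_mul, map_inv, map_inv, map_pow, ht, mul_inv_cancel])
    obtain ⟨i, hi⟩ := Subgroup.mem_zpowers_iff.1 h4
    have h5 : (k : BG) * g wA * (k : BG)⁻¹ = g x52 ^ i * g wC := by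
      rw [hi, ← R_pow]
      exact (inv_mul_cancel_right _ _).symm
    have h6 : (g x52 ^ i) ^ 2 = 1 := by
      have h7 := congrArg (· ^ 2) h5
      simp only [conj_pow, eq_of_ord o_A, (c_x52_C.zpow_left i).mul_pow, eq_of_ord o_C, mul_one, mul_inv_cancel] at h7
      exact h7.symm
    have h8 : (g x52 ^ i) ^ 13 = 1 := by
      rw [← zpow_natCast, ← zpow_mul, mul_comm, zpow_mul, zpow_natCast, eq_of_ord o_x52, one_zpow]
    have h9 : g x52 ^ i = 1 := by
      rw [show 13 = 2 * 6 + 1 from rfl, pow_succ, pow_mul, h6, one_pow, one_mul] at h8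
      exact h8
    rw [h9, one_mul] at h5
    have h10 := ch_conj k (g wA)
    rw [h5, vA, vC] at h10
    norm_num at h10

theorem boxC_26B : BoxCB 126 := by
  have h1 := cong (by norm_num) o_x52 c_x52_A.eq (by rw [o_A]; norm_num)
  have h2 := ch_abs 7 cc_26B (by norm_num)
  rw [vA] at h1
  exact boxC_of (ty_pq sg_26B (by norm_num) o_x52 c_x52_A.eq o_A (by norm_num) (by norm_num) (by omega) v52 vA) cc_26B
    (by rw [cnt_26B])

/-! ### The prime 11 -/

theorem cc_55A : cc (g x55 * g wF) ≤ 11 * 5 :=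
  cc_quo (by norm_num) o_x55 (q11 o_x55) c_x55_F.eq o_F (by norm_num) fun s hs =>
    (s5 s (ne_one_of_ord hs (by norm_num)) _ (card_perm s)).2.2 (eq_of_ord hs)

theorem v55A : ch (g x55 * g wF) = -1 := by
  have h1 := cong (by norm_num) o_x55 c_x55_F.eq (by rw [o_F]; norm_num)
  have h2 := ch_abs 7 cc_55A (by norm_num)
  rw [vF] at h1
  omega

theorem v55 : ch (g x55) = 4 := by
  have h1 := ch_prime (by norm_num) o_x55
  have h2 := ch_abs 36 (c11 _ o_x55).le (by norm_num)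
  have h3 := cong' Nat.prime_five o_F c_x55_F.eq (by rw [o_x55]; norm_num)
  rw [v55A] at h3
  omega

theorem v11 {x : BG} (hx : orderOf x = 11) : ch x = 4 :=
  (ch_same (by norm_num) (by norm_num) o_x55 hx).trans v55

theorem boxC_11A : BoxCB 53 := boxC_of (ty_one sg_11A o_x55 v55) (c11 _ o_x55).le (by rw [cnt_11A])

theorem boxC_55A : BoxCB 166 :=
  boxC_of (ty_pq sg_55A (by norm_num) o_x55 c_x55_F.eq o_F (by norm_num) (by norm_num) v55A v55 vF) cc_55A
    (by rw [cnt_55A])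

theorem cc_22A : cc (g x66 * g wS) ≤ 11 * 12 :=
  cc_quo (by norm_num) o_x66 (q11 o_x66) c_x66_S.eq o_S (by norm_num) fun s hs =>
    (s5 s (ne_one_of_ord hs (by norm_num)) _ (card_perm s)).1

theorem v22A : ch (g x66 * g wS) = 2 := by
  have h1 := cong (by norm_num) o_x66 c_x66_S.eq (by rw [o_S]; norm_num)
  have h2 := ch_abs 11 cc_22A (by norm_num)
  have h3 := cong' Nat.prime_two o_S c_x66_S.eq (by rw [o_x66]; norm_num)
  rw [vS] at h1
  rw [v11 o_x66] at h3
  omega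

theorem boxC_22A : BoxCB 107 :=
  boxC_of (ty_pq sg_22A (by norm_num) o_x66 c_x66_S.eq o_S (by norm_num) (by norm_num) v22A (v11 o_x66) vS) cc_22A
    (by rw [cnt_22A])

theorem sec33 {x y : BG} (hx : orderOf x = 11) (h : x * y = y * x) (hy : orderOf y = 3) (hv : ch y = 78) :
    cc (x * y) ≤ 11 * 6 ∧ ch (x * y) = 1 := by
  have h0 : cc (x * y) ≤ 11 * 6 :=
    cc_quo (by norm_num) hx (q11 hx) h hy (by norm_num) fun s hs =>
      (s5 s (ne_one_of_ord hs (by norm_num)) _ (card_perm s)).2.1 (ne_of_ord hs (by norm_num))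
  have h1 := cong (by norm_num) hx h (by rw [hy]; norm_num)
  have h2 := ch_abs 8 h0 (by norm_num)
  rw [hv] at h1
  exact ⟨h0, by omega⟩

theorem boxC_33A : BoxCB 143 := by
  obtain ⟨h0, h1⟩ := sec33 o_x66 c_x66_T.eq o_T vT
  exact boxC_of (ty_pq sg_33A (by norm_num) o_x66 c_x66_T.eq o_T (by norm_num) (by norm_num) h1 (v11 o_x66) vT) h0
    (by rw [cnt_33A])

theorem boxC_66A : BoxCB 171 := by
  have ho : orderOf (g wT * g wS) = 6 := order_mul c_T_S.eq o_T o_S (by norm_num)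
  have hc := c_x66_T.mul_right c_x66_S
  have h0 : cc (g x66 * (g wT * g wS)) ≤ 11 * 6 :=
    cc_quo (by norm_num) o_x66 (q11 o_x66) hc.eq ho (by norm_num) fun s hs =>
      (s5 s (ne_one_of_ord hs (by norm_num)) _ (card_perm s)).2.1 (ne_of_ord hs (by norm_num))
  have h1 := cong (by norm_num) o_x66 hc.eq (by rw [ho]; norm_num)
  have h2 := ch_abs 8 h0 (by norm_num)
  rw [vTS] at h1
  have p2 : (g wT * g wS) ^ 2 = g wT ^ 2 := by rw [c_T_S.mul_pow, eq_of_ord o_S, mul_one]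
  have p3 : (g wT * g wS) ^ 3 = g wS := by
    rw [c_T_S.mul_pow, eq_of_ord o_T, one_mul, pow_succ, eq_of_ord o_S, one_mul]
  have v2 : ch (g wT ^ 2) = 78 := (ch_gal (by rw [o_T]; norm_num)).trans vT
  have o2 : orderOf (g wT ^ 2) = 3 := by
    have := finBG
    rw [orderOf_pow, o_T]
    norm_num
  refine boxC_of (ty_of sg_66A (by norm_num) o_x66 hc.eq ho (by norm_num) (by norm_num) ?_) h0 (by rw [cnt_66A])
  simp only [List.forall_mem_cons, List.not_mem_nil, false_imp_iff, implies_true, and_true]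
  refine ⟨Or.inl ⟨by norm_num, by rw [pow_one]; omega⟩,
    Or.inl ⟨by norm_num, by rw [p2, (sec33 o_x66 (c_x66_T.pow_right 2).eq o2 v2).2]⟩,
    Or.inl ⟨by norm_num, by rw [p3, v22A]⟩, Or.inl ⟨by norm_num, by rw [eq_of_ord ho, mul_one, v11 o_x66]⟩,
    Or.inr ⟨by norm_num, ?_⟩, Or.inr ⟨by norm_num, ?_⟩, Or.inr ⟨by norm_num, ?_⟩⟩
  · rw [show 11 / 11 = 1 from rfl, pow_one, vTS]
  · rw [show 22 / 11 = 2 from rfl, p2, v2]
  · rw [show 33 / 11 = 3 from rfl, p3, vS]

/-! ### Plain boxes -/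

theorem box_11A : BoxB 53 := boxC_11A.box

theorem box_13A : BoxB 74 := boxC_13A.box

theorem box_17A : BoxB 89 := boxC_17A.box

theorem box_19A : BoxB 95 := boxC_19A.box

theorem box_22A : BoxB 107 := boxC_22A.box

theorem box_26A : BoxB 125 := boxC_26A.box

theorem box_26B : BoxB 126 := boxC_26B.box

theorem box_33A : BoxB 143 := boxC_33A.box

theorem box_34C : BoxB 145 := boxC_34C.box

theorem box_38A : BoxB 150 := boxC_38A.box

theorem box_39A : BoxB 151 := boxC_39A.box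

theorem box_52A : BoxB 165 := boxC_52A.box

theorem box_55A : BoxB 166 := boxC_55A.box

theorem box_66A : BoxB 171 := boxC_66A.box

end Cfsg.Agent.TAB.B.P11
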