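import Cfsg.Agent.TAB.B.Key
import Cfsg.Agent.TAB.Big.Gen
import Cfsg.Agent.CharactersDeep.ColumnBessel
import Cfsg.Agent.J3Type.CharTools
import Cfsg.Agent.BMx.Loc

/-!
# Tools for the sections of the large primes in the Baby Monster (helper72, TAB)

`ch g` is the trace on the space of dimension 4371, as an integer.
-/

set_option autoImplicit false
set_option maxRecDepth 100000

namespace Cfsg.Agent.TAB.B.P11

open Cfsg Cfsg.Agent.TAB.Eng Cfsg.Agent.TAB.B Cfsg.Agent.TAB.Big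
open Cfsg.Agent.H863.BGL (iso)
open Subgroup (centralizer zpowers mem_centralizer_singleton_iff)

/-- the order of the group -/
abbrev NB : ℕ := 4154781481226426191177580544000000

theorem finBG : Finite BG := Nat.finite_of_card_ne_zero (by rw [card_B]; norm_num)

theorem exists_int (g : BG) : ∃ n : ℤ, tr g = n := by
  have := finBG
  have h : IsIntegral ℤ ((tr g : ℚ) : ℂ) := Characters.GaloisBasic.isIntegral_apply isChar g
  have h1 : IsIntegral ℤ (tr g) :=
    (isIntegral_algebraMap_iff (R := ℤ) (A := ℚ) (B := ℂ) (algebraMap ℚ ℂ).injective).1 (by simpa using h)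
  obtain ⟨n, hn⟩ := IsIntegrallyClosed.isIntegral_iff.1 h1
  exact ⟨n, by simpa using hn.symm⟩

/-- the trace on the space of dimension 4371 -/
noncomputable def ch (g : BG) : ℤ := (exists_int g).choose

theorem tr_eq_ch (g : BG) : tr g = ch g := (exists_int g).choose_spec

theorem ch_of_tr {g : BG} {a : ℤ} (h : tr g = a) : ch g = a := by
  rw [tr_eq_ch] at h
  exact_mod_cast h

theorem tr_iff {g : BG} {a : ℤ} : tr g = a ↔ ch g = a := ⟨ch_of_tr, fun h => by rw [tr_eq_ch, h]⟩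

theorem ch_conj (h g : BG) : ch (h * g * h⁻¹) = ch g := by
  apply ch_of_tr
  rw [tr_conj, tr_eq_ch]

theorem ch_gal {g : BG} {k : ℕ} (hk : Nat.Coprime k (orderOf g)) : ch (g ^ k) = ch g :=
  ch_of_tr (key.gal g k (ch g) hk (tr_eq_ch g))

theorem ch_one : ch 1 = 4371 := by
  apply ch_of_tr
  show LinearMap.trace ℚ BabyM.Conc.V 1 = _
  rw [LinearMap.trace_one, Module.finrank_fintype_fun_eq_card, BabyM.Conc.card_lane]
  norm_num

theorem ch_pow_prime (g : BG) {p : ℕ} (hp : p.Prime) : (p : ℤ) ∣ ch g - ch (g ^ p) := by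
  have := finBG
  refine J3Type.CharTools.int_congr isChar g hp ?_ ?_
  · rw [tr_eq_ch]; rfl
  · rw [tr_eq_ch]; rfl

theorem tyB_iff' {i o : ℕ} {l : List (ℕ × ℤ)} (h : sg dat val i = (o, l)) (g : BG) :
    TyB i g ↔ orderOf g = o ∧ ∀ p ∈ l, ch (g ^ p.1) = p.2 := by
  rw [tyB_iff h]
  simp only [tr_iff]

/-- the order of the centralizer -/
noncomputable abbrev cc (g : BG) : ℕ := Nat.card (centralizer ({g} : Set BG))

theorem card_cent_equiv {A B : Type*} [Group A] [Group B] (e : A ≃* B) (x : A) :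
    Nat.card (centralizer ({e x} : Set B)) = Nat.card (centralizer ({x} : Set A)) := by
  symm
  refine Nat.card_congr ⟨fun a => ⟨e a.1, mem_centralizer_singleton_iff.2 ?_⟩,
    fun b => ⟨e.symm b.1, mem_centralizer_singleton_iff.2 ?_⟩, fun a => Subtype.ext (e.symm_apply_apply _),
    fun b => Subtype.ext (e.apply_symm_apply _)⟩
  · rw [← map_mul, ← map_mul, mem_centralizer_singleton_iff.1 a.2]
  · apply e.injective
    rw [map_mul, map_mul, e.apply_symm_apply, mem_centralizer_singleton_iff.1 b.2]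

theorem cc_eq (g : BG) : cc g = Nat.card (centralizer ({iso.symm g} : Set Spor.BabyMonster)) :=
  (card_cent_equiv iso.symm g).symm

theorem ch_bound (g : BG) : 1 + ch g ^ 2 ≤ (cc g : ℤ) := by
  classical
  have := BMx.Loc.fin_BM
  obtain ⟨χ, hχ, h1, h⟩ := H723.Pair.BChar.exists_chi
  let e : IrrCharacter Spor.BabyMonster := ⟨1, Characters.Core.isIrr_one⟩
  let c : IrrCharacter Spor.BabyMonster := ⟨χ, hχ⟩
  have hne : e ≠ c := by
    intro h2
    have h3 : (1 : Spor.BabyMonster → ℂ) = χ := congrArg Subtype.val h2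
    rw [← h3] at h1
    have h4 : (1 : ℂ) = (4371 : ℕ) := h1
    norm_num at h4
  have h2 := CharactersDeep.ColumnBessel.sum_norm_sq_le {e, c} (iso.symm g)
  rw [Finset.sum_pair hne, ← cc_eq] at h2
  have h3 : ‖(e : Spor.BabyMonster → ℂ) (iso.symm g)‖ = 1 := by
    show ‖(1 : ℂ)‖ = 1
    exact norm_one
  have h5 : (c : Spor.BabyMonster → ℂ) (iso.symm g) = ((ch g : ℤ) : ℂ) := by
    show χ _ = _
    rw [h g, ← tr_def, tr_eq_ch]
    rfl
  have h4 : ‖((ch g : ℤ) : ℂ)‖ ^ 2 = ((ch g ^ 2 : ℤ) : ℝ) := by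
    rw [Complex.norm_intCast, sq_abs]
    push_cast
    rfl
  rw [h3, h5, h4, one_pow] at h2
  exact_mod_cast h2

theorem ch_abs {g : BG} {c : ℕ} (s : ℕ) (h : cc g ≤ c) (hs : c ≤ (s + 1) ^ 2) : -(s : ℤ) ≤ ch g ∧ ch g ≤ s := by
  have h1 : 1 + ch g ^ 2 ≤ (((s + 1) ^ 2 : ℕ) : ℤ) := (ch_bound g).trans (by exact_mod_cast h.trans hs)
  push_cast at h1
  constructor <;> nlinarith

theorem cop_of {p n : ℕ} (hp : p.Prime) (h : ¬ p ∣ n) : Nat.Coprime p n := (Nat.Prime.coprime_iff_not_dvd hp).2 h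

theorem ch_prime {x : BG} {p : ℕ} (hp : p.Prime) (hx : orderOf x = p) : (p : ℤ) ∣ ch x - 4371 := by
  have h := ch_pow_prime x hp
  rwa [← hx, pow_orderOf_eq_one, ch_one, hx] at h

theorem cong {x y : BG} {p : ℕ} (hp : p.Prime) (hx : orderOf x = p) (hxy : x * y = y * x) (hy : ¬ p ∣ orderOf y) :
    (p : ℤ) ∣ ch (x * y) - ch y := by
  have h := ch_pow_prime (x * y) hp
  have h1 : x ^ p = 1 := by rw [← hx, pow_orderOf_eq_one]
  rwa [(show Commute x y from hxy).mul_pow, h1, one_mul, ch_gal (cop_of hp hy)] at h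

theorem cong' {x y : BG} {q : ℕ} (hq : q.Prime) (hy : orderOf y = q) (hxy : x * y = y * x) (hx : ¬ q ∣ orderOf x) :
    (q : ℤ) ∣ ch (x * y) - ch x := by
  rw [hxy]
  exact cong hq hy hxy.symm hx

theorem ch_twist {x w : BG} {p d : ℕ} (hp : p.Prime) (hx : orderOf x = p) (hxw : x * w = w * x) (hw : ¬ p ∣ orderOf w)
    (hd : ¬ p ∣ d) : ch (x ^ d * w) = ch (x * w) := by
  have hc := cop_of hp hw
  obtain ⟨k, h1, h2⟩ := Nat.chineseRemainder hc d 1
  have h3 : (x * w) ^ k = x ^ d * w := by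
    rw [(show Commute x w from hxw).mul_pow, pow_eq_pow_iff_modEq.2 (hx.symm ▸ h1), pow_eq_pow_iff_modEq.2 h2, pow_one]
  rw [← h3]
  apply ch_gal
  rw [order_mul hxw hx rfl hc]
  refine Nat.Coprime.mul_right ?_ ?_
  · rw [Nat.coprime_iff_gcd_eq_one, h1.gcd_eq]
    exact (cop_of hp hd).symm
  · rw [Nat.coprime_iff_gcd_eq_one, h2.gcd_eq]
    exact Nat.gcd_one_left _

theorem not_dvd_pow {y : BG} {p : ℕ} (h : ¬ p ∣ orderOf y) (d : ℕ) : ¬ p ∣ orderOf (y ^ d) := fun h1 =>
  h (h1.trans (orderOf_pow_dvd d))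

theorem pw_in {x y : BG} {p d : ℕ} (hp : p.Prime) (hx : orderOf x = p) (hxy : x * y = y * x) (hy : ¬ p ∣ orderOf y)
    (hd : ¬ p ∣ d) : ch ((x * y) ^ d) = ch (x * y ^ d) := by
  rw [(show Commute x y from hxy).mul_pow]
  exact ch_twist hp hx ((show Commute x y from hxy).pow_right d).eq (not_dvd_pow hy d) hd

theorem pw_out {x y : BG} {p : ℕ} (hp : p.Prime) (hx : orderOf x = p) (hxy : x * y = y * x) (hy : ¬ p ∣ orderOf y)
    (e : ℕ) : ch ((x * y) ^ (p * e)) = ch (y ^ e) := by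
  have h1 : x ^ p = 1 := by rw [← hx, pow_orderOf_eq_one]
  rw [(show Commute x y from hxy).mul_pow, pow_mul, h1, one_pow, one_mul, mul_comm, pow_mul]
  exact ch_gal (cop_of hp (not_dvd_pow hy e))

/-- **the type of a product** -/
theorem ty_of {i o : ℕ} {l : List (ℕ × ℤ)} (h : sg dat val i = (o, l)) {x y : BG} {p m : ℕ} (hp : p.Prime)
    (hx : orderOf x = p) (hxy : x * y = y * x) (hy : orderOf y = m) (hm : ¬ p ∣ m) (ho : p * m = o)
    (H : ∀ e ∈ l, (¬ p ∣ e.1 ∧ ch (x * y ^ e.1) = e.2) ∨ (p ∣ e.1 ∧ ch (y ^ (e.1 / p)) = e.2)) : TyB i (x * y) := by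
  refine (tyB_iff' h _).2 ⟨(order_mul hxy hx hy (cop_of hp hm)).trans ho, fun e he => ?_⟩
  rcases H e he with ⟨h1, h2⟩ | ⟨h1, h2⟩
  · rw [pw_in hp hx hxy (hy ▸ hm) h1, h2]
  · rw [← h2, ← pw_out hp hx hxy (hy ▸ hm), Nat.mul_div_cancel' h1]

theorem ty_one {i p : ℕ} {a : ℤ} (h : sg dat val i = (p, [(1, a)])) {x : BG} (hx : orderOf x = p) (ha : ch x = a) :
    TyB i x := by
  refine (tyB_iff' h _).2 ⟨hx, fun e he => ?_⟩
  rw [List.mem_singleton.1 he, pow_one, ha]

theorem ty_pq {i o p q : ℕ} {a b d : ℤ} (h : sg dat val i = (o, [(1, a), (q, b), (p, d)])) {x y : BG} (hp : p.Prime)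
    (hx : orderOf x = p) (hxy : x * y = y * x) (hy : orderOf y = q) (hm : ¬ p ∣ q) (ho : p * q = o)
    (ha : ch (x * y) = a) (hb : ch x = b) (hd : ch y = d) : TyB i (x * y) := by
  refine ty_of h hp hx hxy hy hm ho ?_
  simp only [List.forall_mem_cons, List.not_mem_nil, false_imp_iff, implies_true, and_true]
  refine ⟨Or.inl ⟨hp.not_dvd_one, by rw [pow_one, ha]⟩, Or.inl ⟨hm, ?_⟩, Or.inr ⟨dvd_rfl, ?_⟩⟩
  · rw [← hy, pow_orderOf_eq_one, mul_one, hb]
  · rw [Nat.div_self hp.pos, pow_one, hd]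

theorem cc_mul {x y : BG} {p m : ℕ} (hp : p.Prime) (hx : orderOf x = p) (hxy : x * y = y * x) (hy : orderOf y = m)
    (hm : ¬ p ∣ m) : cc (x * y) = Nat.card ↥(centralizer ({x} : Set BG) ⊓ centralizer ({y} : Set BG)) := by
  rw [cc, cent_mul hxy (by rw [hx, hy]; exact cop_of hp hm)]

theorem cc_le {x y : BG} {p m : ℕ} (hp : p.Prime) (hx : orderOf x = p) (hxy : x * y = y * x) (hy : orderOf y = m)
    (hm : ¬ p ∣ m) : cc (x * y) ≤ cc x := by
  have := finBG
  rw [cc_mul hp hx hxy hy hm]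
  exact Subgroup.card_le_of_le inf_le_left

/-! ### Boxes -/

theorem boxC_of {i c : ℕ} {g : BG} (hg : TyB i g) (hc : cc g ≤ c) (h : dat.cnt i * c ≤ NB) : BoxCB i :=
  BoxC.of_le hg hc (by rw [card_B]; exact h)

theorem box_two {i p c : ℕ} (hp : p.Prime) (hd : p ∣ NB) (hc : ∀ g : BG, orderOf g = p → cc g = c)
    (hk : ∀ j < 2, (NB / c * j + 1) % p ≠ 0) (hT : ∀ g : BG, orderOf g = p → TyB i g) (h : dat.cnt i ≤ NB / c * 2) :
    BoxB i := by
  have := finBG
  have hX := card_order_ge hp (by rw [card_B]; exact hd) hc (by rw [card_B]) hk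
  refine (h.trans hX).trans (Nat.card_le_card_of_injective (fun g => ⟨g.1, hT _ g.2⟩) ?_)
  intro a b hab
  exact Subtype.ext (congrArg Subtype.val hab :)

/-! ### The quotient `C(x) / ⟨x⟩` -/

section quo

variable {A : Type} [Group A] {S : Type} [Group S]

/-- `C(x) / ⟨x⟩ = S` -/
def Quo (x : A) (S : Type) [Group S] : Prop :=
  ∃ φ : centralizer ({x} : Set A) →* S, Function.Surjective φ ∧ ∀ g, φ g = 1 ↔ (g : A) ∈ zpowers x

theorem Quo.map {B : Type} [Group B] (e : A ≃* B) {x : B} (h : Quo (e.symm x) S) : Quo x S := by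
  obtain ⟨φ, h1, h2⟩ := h
  let ι : centralizer ({x} : Set B) →* centralizer ({e.symm x} : Set A) :=
    (e.symm.toMonoidHom.comp (centralizer ({x} : Set B)).subtype).codRestrict _ fun g =>
      mem_centralizer_singleton_iff.2 (by
        show e.symm g * e.symm x = e.symm x * e.symm g
        rw [← map_mul, ← map_mul, mem_centralizer_singleton_iff.1 g.2])
  refine ⟨φ.comp ι, fun s => ?_, fun g => ?_⟩
  · obtain ⟨a, rfl⟩ := h1 s
    refine ⟨⟨e a, mem_centralizer_singleton_iff.2 ?_⟩, congrArg φ (Subtype.ext (e.symm_apply_apply _))⟩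
    apply e.symm.injective
    rw [map_mul, map_mul, e.symm_apply_apply, mem_centralizer_singleton_iff.1 a.2]
  · rw [MonoidHom.comp_apply, h2]
    constructor
    · rintro ⟨i, hi⟩
      refine ⟨i, e.symm.injective ?_⟩
      rw [map_zpow]
      exact hi
    · rintro ⟨i, hi⟩
      refine ⟨i, ?_⟩
      show e.symm x ^ i = e.symm g
      rw [← map_zpow]
      exact congrArg e.symm hi

theorem quo_of_sub [Finite A] {x : A} {p : ℕ} (hp : p.Prime) (hx : orderOf x = p) {K : Subgroup A}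
    (hK : K ≤ centralizer ({x} : Set A)) (hn : ¬ p ∣ Nat.card K)
    (hc : Nat.card (centralizer ({x} : Set A)) = p * Nat.card K) (e : K ≃* S) : Quo x S := by
  set C := centralizer ({x} : Set A)
  let x' : C := ⟨x, mem_centralizer_singleton_iff.2 rfl⟩
  have hcen : ∀ g : C, g * x' = x' * g := fun g => Subtype.ext (mem_centralizer_singleton_iff.1 g.2)
  have hN : (zpowers x').Normal := ⟨fun n hn g => by
    obtain ⟨i, rfl⟩ := Subgroup.mem_zpowers_iff.1 hn
    rw [((show Commute g x' from hcen g).zpow_right i).eq, mul_inv_cancel_right]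
    exact hn⟩
  have hx' : orderOf x' = p := by rw [← hx, Subgroup.orderOf_mk]
  let ψ : K →* C ⧸ zpowers x' := (QuotientGroup.mk' _).comp (Subgroup.inclusion hK)
  have hinj : Function.Injective ψ := by
    rw [injective_iff_map_eq_one]
    intro k hk
    have h1 : Subgroup.inclusion hK k ∈ zpowers x' := (QuotientGroup.eq_one_iff _).1 hk
    have h2 := orderOf_dvd_of_mem_zpowers h1
    rw [orderOf_injective _ (Subgroup.inclusion_injective hK), hx'] at h2
    rcases (Nat.dvd_prime hp).1 h2 with h3 | h3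
    · exact orderOf_eq_one_iff.1 h3
    · exact absurd (h3 ▸ orderOf_dvd_natCard k) hn
  have hcard : Nat.card (C ⧸ zpowers x') = Nat.card K := by
    have h1 := Subgroup.card_eq_card_quotient_mul_card_subgroup (zpowers x')
    rw [hc, Nat.card_zpowers, hx', mul_comm] at h1
    exact (Nat.eq_of_mul_eq_mul_right hp.pos h1).symm
  have hb : Function.Bijective ψ := (Nat.bijective_iff_injective_and_card ψ).2 ⟨hinj, hcard.symm⟩
  let f := MulEquiv.ofBijective ψ hb
  refine ⟨(e.toMonoidHom.comp f.symm.toMonoidHom).comp (QuotientGroup.mk' _), ?_, fun g => ?_⟩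
  · exact e.surjective.comp (f.symm.surjective.comp (QuotientGroup.mk'_surjective _))
  · show e (f.symm (QuotientGroup.mk g)) = 1 ↔ _
    rw [map_eq_one_iff e e.injective, map_eq_one_iff f.symm f.symm.injective, QuotientGroup.eq_one_iff]
    constructor
    · rintro ⟨i, hi⟩
      exact ⟨i, congrArg Subtype.val hi⟩
    · rintro ⟨i, hi⟩
      exact ⟨i, Subtype.ext hi⟩

variable {x : A} {φ : centralizer ({x} : Set A) →* S}

theorem quo_ord {p : ℕ} (hp : p.Prime) (hx : orderOf x = p) (h2 : ∀ g, φ g = 1 ↔ (g : A) ∈ zpowers x)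
    (y : centralizer ({x} : Set A)) (hy : ¬ p ∣ orderOf (y : A)) : orderOf (φ y) = orderOf (y : A) := by
  rw [Subgroup.orderOf_coe] at hy ⊢
  refine Nat.dvd_antisymm (orderOf_map_dvd φ y) (orderOf_dvd_of_pow_eq_one ?_)
  have h1 := orderOf_dvd_of_mem_zpowers ((h2 (y ^ orderOf (φ y))).1 (by rw [map_pow, pow_orderOf_eq_one]))
  rw [Subgroup.orderOf_coe, hx] at h1
  rcases (Nat.dvd_prime hp).1 h1 with h3 | h3
  · exact orderOf_eq_one_iff.1 h3
  · exact absurd (h3 ▸ orderOf_pow_dvd _) hy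

theorem quo_le [Finite A] [Finite S] (h2 : ∀ g, φ g = 1 ↔ (g : A) ∈ zpowers x) (y : centralizer ({x} : Set A)) :
    Nat.card ↥(centralizer ({x} : Set A) ⊓ centralizer ({(y : A)} : Set A)) ≤
      orderOf x * Nat.card (centralizer ({φ y} : Set S)) := by
  let ψ : ↥(centralizer ({x} : Set A) ⊓ centralizer ({(y : A)} : Set A)) →* S := φ.comp (Subgroup.inclusion inf_le_left)
  rw [← Subgroup.card_mul_index ψ.ker, Subgroup.index_ker]
  refine Nat.mul_le_mul ?_ (Subgroup.card_le_of_le ?_)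
  · rw [← Nat.card_zpowers]
    refine Nat.card_le_card_of_injective (fun g => ⟨g.1.1, (h2 _).1 g.2⟩) fun a b hab => ?_
    exact Subtype.ext (Subtype.ext (congrArg Subtype.val hab :))
  · rintro _ ⟨g, rfl⟩
    refine mem_centralizer_singleton_iff.2 ?_
    show φ _ * φ y = φ y * φ _
    rw [← map_mul, ← map_mul]
    exact congrArg φ (Subtype.ext (mem_centralizer_singleton_iff.1 g.2.2))

end quo

/-- the bound of `C(x y)` from the quotient -/
theorem cc_quo {S : Type} [Group S] [Finite S] {x y : BG} {p m c : ℕ} (hp : p.Prime) (hx : orderOf x = p) (Q : Quo x S)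
    (hxy : x * y = y * x) (hy : orderOf y = m) (hm : ¬ p ∣ m)
    (hS : ∀ s : S, orderOf s = m → Nat.card (centralizer ({s} : Set S)) ≤ c) : cc (x * y) ≤ p * c := by
  have := finBG
  obtain ⟨φ, -, h2⟩ := Q
  rw [cc_mul hp hx hxy hy hm]
  have h3 := quo_le h2 ⟨y, mem_centralizer_singleton_iff.2 hxy.symm⟩
  rw [hx] at h3
  exact h3.trans (Nat.mul_le_mul_left _ (hS _ ((quo_ord hp hx h2 _ (hy ▸ hm)).trans hy)))

end Cfsg.Agent.TAB.B.P11
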